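import Cfsg.Agent.MK.H.Cnt

/-!
# MK, box H: the hat lemmas, `stepI`, `stepF` (helper56)

* `pr c : (ι → X) →* G` the product map, `PP c Q` the product of the copies of `Q`, `LL c = Z ⊔ ⨆ range (e i)`;
* `a_e_self`, `a_e_ne`, `a_pr`, `π_pr`, `conj_pr`, `π_Z`, `a_Z`, `mem_LL`, `mem_hat_LL`, `exists_hat`;
* `exists_P` : a Sylow `2`-subgroup of `hat Λ` whose normaliser lies in `hat (Nm Λ Q)`.
-/

set_option autoImplicit false
set_option maxHeartbeats 400000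

namespace Cfsg.Agent.MK.H

open Cfsg Subgroup Cfsg.Agent.ODD

variable {X : Type} [Group X]

theorem noncomm {Γ : Subgroup (MulAut X)} (s : Sit X Γ) : ∃ x y : X, x * y ≠ y * x := by
  by_contra h
  push Not at h
  have := s.qs.2
  obtain ⟨a, b, hab⟩ := exists_pair_ne (X ⧸ center X)
  obtain ⟨a, rfl⟩ := QuotientGroup.mk_surjective a
  obtain ⟨b, rfl⟩ := QuotientGroup.mk_surjective b
  exact hab (QuotientGroup.eq.2 (mem_center_iff.2 fun g => h _ _))

theorem conj_eq_one {z : X} : MulAut.conj z = 1 ↔ z ∈ center X := by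
  rw [mem_center_iff, MulEquiv.ext_iff]
  refine forall_congr' fun g => ?_
  rw [MulAut.conj_apply, MulAut.one_apply, mul_inv_eq_iff_eq_mul, eq_comm]

theorem conj_eq_conj {x y : X} : MulAut.conj x = MulAut.conj y ↔ y⁻¹ * x ∈ center X := by
  rw [← conj_eq_one, map_mul, map_inv, inv_mul_eq_one, eq_comm]

theorem mul_conj (α : MulAut X) (x : X) : α * MulAut.conj x = MulAut.conj (α x) * α := by
  rw [conj_map, inv_mul_cancel_right]

variable {Γ : Subgroup (MulAut X)} {G : Type} [Group G] {Z : Subgroup G} {ι : Type} (c : Conf Γ G Z ι)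

theorem mem_hat {Λ : Subgroup (MulAut X)} {g : G} : g ∈ c.hat Λ ↔ ∀ i, c.a g i ∈ Λ := Iff.rfl

theorem hat_mono {Λ Λ' : Subgroup (MulAut X)} (h : Λ ≤ Λ') : c.hat Λ ≤ c.hat Λ' := fun _ hg i => h (hg i)

theorem hat_top : c.hat Γ = ⊤ := eq_top_iff.2 fun g _ i => c.mem g i

theorem hat_ne_top {Λ : Subgroup (MulAut X)} (h : Λ ≤ Γ) (hne : Λ ≠ Γ) : c.hat Λ ≠ ⊤ := fun ht => by
  obtain ⟨i⟩ := c.ne
  refine hne (le_antisymm h fun α hα => ?_)
  obtain ⟨g, -, rfl⟩ := c.onto i i α hα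
  exact (ht ▸ mem_top g : g ∈ c.hat Λ) i

theorem a_e_self (i : ι) (x : X) : c.a (c.e i x) i = MulAut.conj x := by
  ext y
  have h := c.ha (c.e i x) i y
  rw [c.pie, Equiv.Perm.one_apply, ← map_inv, ← map_mul, ← map_mul] at h
  exact (c.inj i h).symm

theorem a_e_ne {i j : ι} (h : i ≠ j) (x : X) : c.a (c.e i x) j = 1 := by
  ext y
  have h1 := c.ha (c.e i x) j y
  rw [c.pie, Equiv.Perm.one_apply, c.comm i j h, mul_inv_cancel_right] at h1
  exact (c.inj j h1).symm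

theorem e_mem_Z {z : X} (hz : z ∈ center X) (i : ι) : c.e i z ∈ Z :=
  c.ker _ (c.pie i z) fun j => by
    by_cases h : i = j
    · subst h
      rw [a_e_self, conj_eq_one.2 hz]
    · exact a_e_ne c h z

theorem π_cen (hX : ∃ x y : X, x * y ≠ y * x) {z : G} (hz : z ∈ center G) : c.π z = 1 := by
  obtain ⟨x, y, hxy⟩ := hX
  ext i
  by_contra h
  have h1 := c.ha z i x
  rw [← mem_center_iff.1 hz, mul_inv_cancel_right] at h1
  apply hxy
  apply c.inj i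
  rw [map_mul, map_mul, h1]
  exact c.comm _ _ h _ _

theorem a_cen (hX : ∃ x y : X, x * y ≠ y * x) {z : G} (hz : z ∈ center G) (i : ι) : c.a z i = 1 := by
  ext x
  have h1 := c.ha z i x
  rw [← mem_center_iff.1 hz, mul_inv_cancel_right, π_cen c hX hz, Equiv.Perm.one_apply] at h1
  exact (c.inj i h1).symm

theorem Z_le_hat (hX : ∃ x y : X, x * y ≠ y * x) (Λ : Subgroup (MulAut X)) : Z ≤ c.hat Λ := fun z hz i => by
  rw [a_cen c hX (c.cen hz)]
  exact one_mem _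

theorem a_inv' (g : G) (i : ι) : c.a g⁻¹ (c.π g i) = (c.a g i)⁻¹ := by
  rw [c.a_inv, map_inv, Equiv.Perm.inv_def, Equiv.symm_apply_apply]

/-- two elements with the same action differ by an element of `Z` -/
theorem mul_inv_mem_Z {g h : G} (h1 : c.π g = c.π h) (h2 : ∀ i, c.a g i = c.a h i) : g * h⁻¹ ∈ Z :=
  c.ker _ (by rw [map_mul, map_inv, h1, mul_inv_cancel]) fun i => by
    rw [c.a_mul, c.a_inv, h2, mul_inv_cancel]

variable [Fintype ι]

/-- the product map -/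
noncomputable def pr : (ι → X) →* G := MonoidHom.noncommPiCoprod c.e fun i j h x y => c.comm i j h x y

theorem pr_single [DecidableEq ι] (i : ι) (x : X) : pr c (Pi.mulSingle i x) = c.e i x :=
  MonoidHom.noncommPiCoprod_mulSingle c.e i x

theorem range_pr : (pr c).range = ⨆ i, (c.e i).range := MonoidHom.noncommPiCoprod_range c.e

theorem π_pr (x : ι → X) : c.π (pr c x) = 1 := by
  classical
  have h : c.π.comp (pr c) = 1 := MonoidHom.pi_ext fun i y => by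
    rw [MonoidHom.comp_apply, pr_single, c.pie, MonoidHom.one_apply]
  exact DFunLike.congr_fun h x

theorem a_pr (x : ι → X) (i : ι) : c.a (pr c x) i = MulAut.conj (x i) := by
  classical
  let f : (ι → X) →* MulAut X := MonoidHom.mk' (fun x => c.a (pr c x) i) fun x y => by
    rw [map_mul, c.a_mul, π_pr, Equiv.Perm.one_apply]
  have h : f = MulAut.conj.comp (Pi.evalMonoidHom (fun _ : ι => X) i) := MonoidHom.pi_ext fun j y => by
    change c.a (pr c (Pi.mulSingle j y)) i = MulAut.conj ((Pi.mulSingle j y : ι → X) i)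
    rw [pr_single]
    by_cases hj : j = i
    · subst hj
      rw [a_e_self, Pi.mulSingle_eq_same]
    · rw [a_e_ne c hj, Pi.mulSingle_eq_of_ne' hj, map_one]
  exact DFunLike.congr_fun h x

/-- conjugation of products -/
theorem conj_pr (g : G) {x y : ι → X} (h : ∀ i, y (c.π g i) = c.a g i (x i)) : g * pr c x * g⁻¹ = pr c y := by
  classical
  let φ : (ι → X) →* (ι → X) := MonoidHom.mk' (fun x j => c.a g ((c.π g)⁻¹ j) (x ((c.π g)⁻¹ j))) fun x y => by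
    ext j
    simp only [Pi.mul_apply, map_mul]
  have h1 : (MulAut.conj g).toMonoidHom.comp (pr c) = (pr c).comp φ := MonoidHom.pi_ext fun j z => by
    change g * pr c (Pi.mulSingle j z) * g⁻¹ = pr c (φ (Pi.mulSingle j z))
    rw [pr_single, c.ha, ← pr_single]
    congr 1
    ext k
    obtain ⟨k, rfl⟩ := (c.π g).surjective k
    change _ = c.a g ((c.π g)⁻¹ (c.π g k)) ((Pi.mulSingle j z : ι → X) ((c.π g)⁻¹ (c.π g k)))
    rw [Equiv.Perm.inv_def, Equiv.symm_apply_apply]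
    by_cases hk : k = j
    · subst hk
      rw [Pi.mulSingle_eq_same, Pi.mulSingle_eq_same]
    · rw [Pi.mulSingle_eq_of_ne hk, Pi.mulSingle_eq_of_ne fun e => hk ((c.π g).injective e), map_one]
  have h2 : φ x = y := by
    ext k
    obtain ⟨k, rfl⟩ := (c.π g).surjective k
    change c.a g ((c.π g)⁻¹ (c.π g k)) (x ((c.π g)⁻¹ (c.π g k))) = _
    rw [Equiv.Perm.inv_def, Equiv.symm_apply_apply, h]
  rw [← h2]
  exact DFunLike.congr_fun h1 x

omit [Fintype ι] in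
theorem exists_conj (g : G) (x : ι → X) : ∃ y : ι → X, ∀ i, y (c.π g i) = c.a g i (x i) :=
  ⟨fun j => c.a g ((c.π g).symm j) (x ((c.π g).symm j)), fun i => by simp only [Equiv.symm_apply_apply]⟩

theorem a_pr_mul (x : ι → X) (g : G) (i : ι) : c.a (pr c x * g) i = MulAut.conj (x (c.π g i)) * c.a g i := by
  rw [c.a_mul, a_pr]

theorem a_mul_pr (g : G) (x : ι → X) (i : ι) : c.a (g * pr c x) i = c.a g i * MulAut.conj (x i) := by
  rw [c.a_mul, a_pr, π_pr, Equiv.Perm.one_apply]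

theorem cen_of_pr_eq {x y : ι → X} (h : pr c x = pr c y) (i : ι) : (y i)⁻¹ * x i ∈ center X := by
  rw [← conj_eq_conj, ← a_pr c, h, a_pr]

/-- the product of the copies of `Q` -/
noncomputable def PP (Q : Subgroup X) : Subgroup G := (Subgroup.pi Set.univ fun _ : ι => Q).map (pr c)

theorem mem_PP {Q : Subgroup X} {g : G} : g ∈ PP c Q ↔ ∃ x : ι → X, (∀ i, x i ∈ Q) ∧ pr c x = g :=
  ⟨fun ⟨x, h, e⟩ => ⟨x, fun i => h i trivial, e⟩, fun ⟨x, h, e⟩ => ⟨x, fun i _ => h i, e⟩⟩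

theorem pr_mem_PP {Q : Subgroup X} {x : ι → X} (h : ∀ i, x i ∈ Q) : pr c x ∈ PP c Q := (mem_PP c).2 ⟨x, h, rfl⟩

theorem e_mem_PP {Q : Subgroup X} {x : X} (h : x ∈ Q) (i : ι) : c.e i x ∈ PP c Q := by
  classical
  rw [← pr_single]
  refine pr_mem_PP c fun j => ?_
  by_cases hj : j = i
  · subst hj
    rwa [Pi.mulSingle_eq_same]
  · rw [Pi.mulSingle_eq_of_ne hj]
    exact one_mem _

theorem PP_mono {Q Q' : Subgroup X} (h : Q ≤ Q') : PP c Q ≤ PP c Q' := fun _ hg => by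
  obtain ⟨x, hx, rfl⟩ := (mem_PP c).1 hg
  exact pr_mem_PP c fun i => h (hx i)

theorem PP_le_hat {Q : Subgroup X} {Λ : Subgroup (MulAut X)} (h : Q ≤ In Λ) : PP c Q ≤ c.hat Λ := fun _ hg i => by
  obtain ⟨x, hx, rfl⟩ := (mem_PP c).1 hg
  rw [a_pr]
  exact h (hx i)

theorem conj_mem_PP {Q : Subgroup X} {g : G} (hg : ∀ i, ∀ x ∈ Q, c.a g i x ∈ Q) {u : G} (hu : u ∈ PP c Q) :
    g * u * g⁻¹ ∈ PP c Q := by
  obtain ⟨x, hx, rfl⟩ := (mem_PP c).1 hu
  obtain ⟨y, hy⟩ := exists_conj c g x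
  rw [conj_pr c g hy]
  refine pr_mem_PP c fun j => ?_
  obtain ⟨i, rfl⟩ := (c.π g).surjective j
  rw [hy]
  exact hg i _ (hx i)

theorem card_PP_dvd (Q : Subgroup X) : Nat.card (PP c Q) ∣ Nat.card Q ^ Fintype.card ι := by
  refine (card_map_dvd _ _).trans (dvd_of_eq ?_)
  have e : (Subgroup.pi Set.univ fun _ : ι => Q) ≃ (ι → Q) :=
    { toFun := fun x i => ⟨x.1 i, x.2 i trivial⟩
      invFun := fun x => ⟨fun i => x i, fun i _ => (x i).2⟩
      left_inv := fun _ => rfl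
      right_inv := fun _ => rfl }
  rw [Nat.card_congr e, Nat.card_fun, Nat.card_eq_fintype_card (α := ι)]

theorem isPGroup_PP [Finite X] [Finite G] {Q : Subgroup X} (hQ : IsPGroup 2 Q) : IsPGroup 2 (PP c Q) := by
  obtain ⟨k, hk⟩ := IsPGroup.iff_card.1 hQ
  have h := card_PP_dvd c Q
  rw [hk, ← pow_mul] at h
  obtain ⟨j, -, hj⟩ := (Nat.dvd_prime_pow Nat.prime_two).1 h
  exact IsPGroup.of_card hj

theorem odd_PP {Q : Subgroup X} (hQ : Odd (Nat.card Q)) : Odd (Nat.card (PP c Q)) :=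
  hQ.pow.of_dvd_nat (card_PP_dvd c Q)

/-- the subgroup `Z * ∏ X i` -/
def LL : Subgroup G := Z ⊔ ⨆ i, (c.e i).range

theorem mem_LL {g : G} : g ∈ LL c ↔ ∃ z ∈ Z, ∃ x : ι → X, g = z * pr c x := by
  have : Z.Normal := ⟨fun z hz a => by rwa [mem_center_iff.1 (c.cen hz) a, mul_inv_cancel_right]⟩
  rw [LL, ← range_pr, mem_sup_of_normal_left]
  exact ⟨fun ⟨z, hz, _, ⟨x, rfl⟩, e⟩ => ⟨z, hz, x, e.symm⟩, fun ⟨z, hz, x, e⟩ => ⟨z, hz, _, ⟨x, rfl⟩, e.symm⟩⟩

theorem mem_LL_of {g : G} (h1 : c.π g = 1) (h2 : ∀ i, ∃ x, c.a g i = MulAut.conj x) : g ∈ LL c := by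
  choose x hx using h2
  exact (mem_LL c).2 ⟨g * (pr c x)⁻¹, mul_inv_mem_Z c (by rw [h1, π_pr]) fun i => by rw [hx, a_pr], x, by group⟩

theorem normal_LL : (LL c).Normal := ⟨fun g hg a => by
  obtain ⟨z, hz, x, rfl⟩ := (mem_LL c).1 hg
  obtain ⟨y, hy⟩ := exists_conj c a x
  refine (mem_LL c).2 ⟨z, hz, y, ?_⟩
  rw [← conj_pr c a hy, ← mul_assoc, mem_center_iff.1 (c.cen hz) a]
  group⟩

theorem π_LL (hX : ∃ x y : X, x * y ≠ y * x) {g : G} (hg : g ∈ LL c) : c.π g = 1 := by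
  obtain ⟨z, hz, x, rfl⟩ := (mem_LL c).1 hg
  rw [map_mul, π_cen c hX (c.cen hz), π_pr, mul_one]

theorem mem_hat_LL (hX : ∃ x y : X, x * y ≠ y * x) {Λ : Subgroup (MulAut X)} {g : G} :
    g ∈ c.hat Λ ⊓ LL c ↔ ∃ z ∈ Z, ∃ x : ι → X, (∀ i, x i ∈ In Λ) ∧ g = z * pr c x := by
  have h : ∀ z ∈ Z, ∀ (x : ι → X) i, c.a (z * pr c x) i = MulAut.conj (x i) := fun z hz x i => by
    rw [a_mul_pr, a_cen c hX (c.cen hz), one_mul]
  constructor
  · rintro ⟨h1, h2⟩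
    obtain ⟨z, hz, x, rfl⟩ := (mem_LL c).1 h2
    exact ⟨z, hz, x, fun i => (h z hz x i ▸ h1 i : MulAut.conj (x i) ∈ Λ), rfl⟩
  · rintro ⟨z, hz, x, hx, rfl⟩
    exact ⟨fun i => (h z hz x i).symm ▸ hx i, (mem_LL c).2 ⟨z, hz, x, rfl⟩⟩

theorem hat_inf_LL (hX : ∃ x y : X, x * y ≠ y * x) (Λ : Subgroup (MulAut X)) :
    c.hat Λ ⊓ LL c = Z ⊔ PP c (In Λ) := by
  have : Z.Normal := ⟨fun z hz a => by rwa [mem_center_iff.1 (c.cen hz) a, mul_inv_cancel_right]⟩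
  ext g
  rw [mem_hat_LL c hX, mem_sup_of_normal_left]
  exact ⟨fun ⟨z, hz, x, hx, e⟩ => ⟨z, hz, _, pr_mem_PP c hx, e.symm⟩, fun ⟨z, hz, y, hy, e⟩ => by
    obtain ⟨x, hx, rfl⟩ := (mem_PP c).1 hy
    exact ⟨z, hz, x, hx, e.symm⟩⟩

/-- every element of `Λ` is induced by an element of `hat Λ` -/
theorem exists_hat {Λ : Subgroup (MulAut X)} (h : Supp Γ Λ) (i j : ι) {α : MulAut X} (hα : α ∈ Λ) :
    ∃ g ∈ c.hat Λ, c.π g i = j ∧ c.a g i = α := by
  classical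
  obtain ⟨g, h1, h2⟩ := c.onto i j α (h.le hα)
  have h3 : ∀ k, ∃ x : X, MulAut.conj x * c.a g k ∈ Λ ∧ (k = i → x = 1) := fun k => by
    by_cases hk : k = i
    · exact ⟨1, by rwa [map_one, one_mul, hk, h2], fun _ => rfl⟩
    · obtain ⟨x, β, hβ, e⟩ := h.sup _ (c.mem g k)
      exact ⟨x⁻¹, by rwa [e, map_inv, inv_mul_cancel_left], fun e => absurd e hk⟩
  choose x hx hx' using h3
  refine ⟨pr c (fun k => x ((c.π g).symm k)) * g, fun k => ?_, by rw [map_mul, π_pr, one_mul, h1], ?_⟩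
  · rw [a_pr_mul, Equiv.symm_apply_apply]
    exact hx k
  · rw [a_pr_mul, Equiv.symm_apply_apply, hx' i rfl, map_one, one_mul, h2]

theorem odd_relIndex_PP [Finite X] [Finite G] {Q K : Subgroup X} (hQ : Q ≤ K) (ho : Odd (Q.relIndex K)) :
    Odd ((PP c Q).relIndex (Z ⊔ PP c K)) := by
  have : Z.Normal := ⟨fun z hz a => by rwa [mem_center_iff.1 (c.cen hz) a, mul_inv_cancel_right]⟩
  rw [← relIndex_mul_relIndex _ (PP c K) _ (PP_mono c hQ) le_sup_right, Nat.odd_mul]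
  constructor
  · let f : (ι → K) →* G := (pr c).comp (MonoidHom.compLeft K.subtype ι)
    have h1 : f.range = PP c K := by
      ext g
      rw [mem_PP]
      exact ⟨fun ⟨x, e⟩ => ⟨fun i => x i, fun i => (x i).2, e⟩, fun ⟨x, hx, e⟩ => ⟨fun i => ⟨x i, hx i⟩, e⟩⟩
    have h2 : (Subgroup.pi Set.univ fun _ : ι => Q.subgroupOf K) ≤ (PP c Q).comap f := fun x hx =>
      pr_mem_PP c fun i => hx i trivial
    have h3 := index_dvd_of_le h2
    rw [index_comap, h1, index_pi] at h3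
    refine Odd.of_dvd_nat ?_ h3
    rw [Finset.prod_const]
    exact Odd.pow ho
  · have h1 := relIndex_mul_relIndex (Z ⊓ PP c K) (PP c K) (Z ⊔ PP c K) inf_le_right le_sup_right
    rw [← relIndex_mul_relIndex (Z ⊓ PP c K) Z (Z ⊔ PP c K) inf_le_left le_sup_left, relIndex_sup_left,
      inf_relIndex_right, mul_comm] at h1
    rw [Nat.eq_of_mul_eq_mul_right (Nat.pos_of_ne_zero index_ne_zero_of_finite) h1]
    exact c.odd.of_dvd_nat (relIndex_dvd_card _ _)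

theorem mem_of_e_mem [Finite X] (hodd : Odd (Nat.card (center X))) {Q : Subgroup X} (hQ : IsPGroup 2 Q) {y : X}
    (hy : ∃ k : ℕ, y ^ 2 ^ k = 1) {j : ι} (h : c.e j y ∈ PP c Q) : y ∈ Q := by
  obtain ⟨q, hq, e⟩ := (mem_PP c).1 h
  have h1 : (q j)⁻¹ * y ∈ center X := by rw [← conj_eq_conj, ← a_pr c, e, a_e_self]
  obtain ⟨k, hk⟩ := hy
  obtain ⟨m, hm⟩ := hQ ⟨q j, hq j⟩
  have hm' : q j ^ 2 ^ m = 1 := congrArg Subtype.val hm
  have h2 : ((q j)⁻¹ * y) ^ 2 ^ (k + m) = 1 := by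
    have h3 : Commute (q j) ((q j)⁻¹ * y) := mem_center_iff.1 h1 _
    have h4 := h3.mul_pow (2 ^ (k + m))
    rw [mul_inv_cancel_left, pow_add, pow_mul, hk, one_pow, mul_comm, pow_mul, hm', one_pow, one_mul] at h4
    rw [pow_add, mul_comm]
    exact h4.symm
  have h5 : orderOf ((q j)⁻¹ * y) = 1 :=
    Nat.eq_one_of_dvd_coprimes ((Nat.coprime_two_left.2 hodd).pow_left (k + m)) (orderOf_dvd_of_pow_eq_one h2)
      (orderOf_dvd_natCard _ h1)
  rw [orderOf_eq_one_iff, inv_mul_eq_one] at h5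
  exact h5 ▸ hq j

/-- the normaliser of the product of the copies of a `2`-group -/
theorem norm_PP [Finite X] (hodd : Odd (Nat.card (center X))) {Q : Subgroup X} (hQ : IsPGroup 2 Q) {g : G}
    (hg : g ∈ normalizer (PP c Q : Set G)) (i : ι) (x : X) : c.a g i x ∈ Q ↔ x ∈ Q := by
  have key : ∀ g ∈ normalizer (PP c Q : Set G), ∀ i, ∀ x ∈ Q, c.a g i x ∈ Q := fun g hg i x hx => by
    obtain ⟨k, hk⟩ := hQ ⟨x, hx⟩
    have hk' : x ^ 2 ^ k = 1 := congrArg Subtype.val hk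
    refine mem_of_e_mem c hodd hQ ⟨k, by rw [← map_pow, hk', map_one]⟩ (j := c.π g i) ?_
    rw [← c.ha]
    exact (mem_normalizer_iff.1 hg _).1 (e_mem_PP c hx i)
  refine ⟨fun h => ?_, key g hg i x⟩
  have h1 := key g⁻¹ (inv_mem hg) (c.π g i) _ h
  rwa [a_inv', MulAut.inv_apply_self] at h1

/-- **a Sylow `2`-subgroup of `hat Λ` with its normaliser in `hat (Nm Λ Q)`** -/
theorem exists_P [Finite X] [Finite G] (s : Sit X Γ) {Λ : Subgroup (MulAut X)} {Q : Subgroup X} (hQ : Q ≤ In Λ)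
    (h2 : IsPGroup 2 Q) (ho : Odd (Q.relIndex (In Λ))) :
    ∃ P : Subgroup G, P ≤ c.hat Λ ∧ IsPGroup 2 P ∧ Odd (P.relIndex (c.hat Λ)) ∧
      normalizer (P : Set G) ⊓ c.hat Λ ≤ c.hat (Nm Λ Q) := by
  obtain ⟨P, h3, h4, h5, h6⟩ := exists_syl (PP_le_hat c hQ) (isPGroup_PP c h2)
  refine ⟨P, h4, h5, h6, fun g hg i => ⟨hg.2 i, norm_PP c s.odd h2 ?_ i⟩⟩
  have h7 : PP c Q ≤ LL c := fun u hu => by
    obtain ⟨x, -, rfl⟩ := (mem_PP c).1 hu
    exact (mem_LL c).2 ⟨1, one_mem _, x, (one_mul _).symm⟩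
  have h8 : P ⊓ LL c = PP c Q := le_antisymm
    (eq_of_odd (odd_relIndex_PP c hQ ho) (le_inf h3 h7) (hat_inf_LL c (noncomm s) Λ ▸ inf_le_inf_right _ h4)
      (h5.to_le inf_le_left)) (le_inf h3 h7)
  rw [← h8, mem_normalizer_iff]
  intro x
  exact and_congr (mem_normalizer_iff.1 hg.1 x)
    ⟨fun h => (normal_LL c).conj_mem _ h g, fun h => by simpa [mul_assoc] using (normal_LL c).conj_mem _ h g⁻¹⟩

/-- **the induction step** -/
theorem stepI : StepI := by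
  intro X _ _ Γ Λ Λ' Q s hs hne hle hQ h2 ho hN G _ _ Z ι _ c l _
  obtain ⟨P, h3, h4, h5, h6⟩ := exists_P c s hQ h2 ho
  exact ih_eq c.ih c.cen (Z_le_hat c (noncomm s) _) (hat_ne_top c hs.le hne) (hat_mono c hle) h3 h4 h5
    (h6.trans (hat_mono c hN)) l

/-- **the last step** -/
theorem stepF : StepF := by
  intro hA X _ _ Γ G _ _ Z ι _ c s l hl P
  obtain ⟨Λ, Q, hle, hne, hN, hE⟩ := hA X Γ s
  have h1 : In Γ = ⊤ := eq_top_iff.2 fun x _ => s.inn x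
  obtain ⟨P₀, -, h4, h5, h6⟩ := exists_P c s (Λ := Γ) (Q := Q) (h1 ▸ le_top) Q.2 (by
    rw [h1, relIndex_top_right, ← Nat.not_even_iff_odd, even_iff_two_dvd]
    exact Q.not_dvd_index)
  rw [hat_top, relIndex_top_right] at h5
  rw [hat_top, inf_top_eq] at h6
  have h7 := h6.trans (hat_mono c hN)
  have h8 : P₀ ≤ c.hat Λ := le_normalizer.trans h7
  have h9 : Odd (P₀.relIndex (c.hat Λ)) := h5.of_dvd_nat (relIndex_dvd_index_of_le h8)
  have h10 := hE G Z ι c l hl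
  rw [hat_top, ih_sub c.ih c.cen (relIndex_lt (Z_le_hat c (noncomm s) _) (hat_ne_top c hle hne)) h8 h4 h9,
    inf_eq_left.2 h7] at h10
  rw [h10]
  exact kk_sylow c.cen l (h4.toSylow (by rw [← even_iff_two_dvd, Nat.not_even_iff_odd]; exact h5)) P

end Cfsg.Agent.MK.H
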