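import Cfsg.Agent.MK.Defs
import Cfsg.Agent.ODD.Red.Bas

/-!
# MK, box H: transport of the counts (helper56)

* `kk_congr`, `kk_sub`, `kk_conj`;
* `ih_sub` : the induction hypothesis for a subgroup `H` and a `2`-subgroup of odd index in `H`;
* `ih_eq` : two subgroups with the same normaliser of a common Sylow `2`-subgroup;
* `deg_par` : `χ 1 ≡ mu χ` modulo `2`, `kk_of_core`.
-/

set_option autoImplicit false
set_option maxHeartbeats 400000

namespace Cfsg.Agent.MK.H

open Cfsg Subgroup Cfsg.Agent.ODD Cfsg.Agent.ODD.Red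

theorem oi_comp {A B : Type} [Group A] [Group B] (e : A ≃* B) {ψ : B → ℂ} (h : OI B ψ) : OI A fun a => ψ (e a) :=
  ⟨isIrr_comp' e.toMonoidHom e.surjective h.1, by
    rw [charDegree_congr (χ := fun a => ψ (e a)) (ψ := ψ) (by simp only [map_one])]
    exact h.2⟩

/-- transport along an isomorphism -/
theorem kk_congr {G G' : Type} [Group G] [Group G'] {H Z : Subgroup G} {K Z' : Subgroup G'} {l : G → ℂ} {l' : G' → ℂ}
    (e : H ≃* K) (hZ : ∀ h : H, (h : G) ∈ Z ↔ (e h : G') ∈ Z') (hl : ∀ h : H, (h : G) ∈ Z → l h = l' (e h)) :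
    kk H Z l = kk K Z' l' := by
  refine Nat.card_congr
    { toFun := fun ψ => ⟨fun k => ψ.1 (e.symm k), oi_comp e.symm ψ.2.1, fun k hk => ?_⟩
      invFun := fun ψ => ⟨fun h => ψ.1 (e h), oi_comp e ψ.2.1, fun h hh => ?_⟩
      left_inv := fun ψ => Subtype.ext (funext fun h => by simp)
      right_inv := fun ψ => Subtype.ext (funext fun h => by simp) }
  · have h1 : ((e.symm k : H) : G) ∈ Z := by rw [hZ, e.apply_symm_apply]; exact hk
    have h2 := ψ.2.2 _ h1
    rw [hl _ h1, e.apply_symm_apply] at h2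
    simpa only [map_one] using h2
  · have h2 := ψ.2.2 _ ((hZ h).1 hh)
    rw [← hl _ hh] at h2
    simpa only [map_one] using h2

variable {G : Type} [Group G]

theorem kk_sub (H Z : Subgroup G) (l : G → ℂ) (K : Subgroup H) :
    kk K (Z.subgroupOf H) (fun h => l h) = kk (K.map H.subtype) Z l :=
  kk_congr (K.equivMapOfInjective H.subtype H.subtype_injective) (fun _ => Iff.rfl) fun _ _ => rfl

theorem kk_conj {Z : Subgroup G} (hZ : Z ≤ center G) (l : G → ℂ) (H : Subgroup G) (g : G) :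
    kk (H.map (MulAut.conj g).toMonoidHom) Z l = kk H Z l := by
  have h1 : ∀ z ∈ Z, ∀ a : G, a * z * a⁻¹ = z := fun z hz a => by
    rw [mem_center_iff.1 (hZ hz) a, mul_inv_cancel_right]
  refine (kk_congr (H.equivMapOfInjective _ (MulAut.conj g).injective) (fun h => ?_) fun h hh => ?_).symm
  · change _ ↔ g * h * g⁻¹ ∈ Z
    refine ⟨fun hh => by rwa [h1 _ hh], fun hh => ?_⟩
    have h2 := h1 _ hh g⁻¹
    rw [show g⁻¹ * (g * h * g⁻¹) * g⁻¹⁻¹ = (h : G) by group] at h2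
    rwa [h2]
  · change _ = l (g * h * g⁻¹)
    rw [h1 _ hh]

/-- the count for the normaliser of a Sylow subgroup does not depend on it -/
theorem kk_sylow [Finite G] {Z : Subgroup G} (hZ : Z ≤ center G) (l : G → ℂ) (P Q : Sylow 2 G) :
    kk (normalizer ((P : Subgroup G) : Set G)) Z l = kk (normalizer ((Q : Subgroup G) : Set G)) Z l := by
  obtain ⟨g, rfl⟩ := MulAction.exists_smul_eq G P Q
  rw [← kk_conj hZ l _ g]
  congr 1
  exact map_equiv_normalizer_eq (P : Subgroup G) (MulAut.conj g)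

/-- **the induction hypothesis for a subgroup** -/
theorem ih_sub [Finite G] {n : ℕ} (ih : IH n) {Z H P : Subgroup G} (hZ : Z ≤ center G) (hn : Z.relIndex H < n)
    (hPH : P ≤ H) (hP : IsPGroup 2 P) (ho : Odd (P.relIndex H)) (l : G → ℂ) :
    kk H Z l = kk (normalizer (P : Set G) ⊓ H) Z l := by
  have h1 : Z.subgroupOf H ≤ center H := fun z hz => mem_center_iff.2 fun g =>
    Subtype.ext (mem_center_iff.1 (hZ hz) g)
  have h2 : IsPGroup 2 (P.subgroupOf H) := hP.comap_subtype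
  have h3 := ih H (Z.subgroupOf H) h1 hn (fun h => l h) (h2.toSylow (by
    rw [← even_iff_two_dvd, Nat.not_even_iff_odd]; exact ho))
  rw [kk_sub, kk_sub, IsPGroup.toSylow_coe, ← subgroupOf_normalizer_eq hPH, subgroupOf_map_subtype,
    ← MonoidHom.range_eq_map, range_subtype] at h3
  exact h3

theorem relIndex_lt [Finite G] {Z H : Subgroup G} (hZ : Z ≤ H) (hH : H ≠ ⊤) : Z.relIndex H < Z.index := by
  rw [← relIndex_mul_index hZ]
  have h1 : Z.relIndex H ≠ 0 := index_ne_zero_of_finite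
  have h2 : H.index ≠ 0 := index_ne_zero_of_finite
  have h3 : H.index ≠ 1 := fun h => hH (index_eq_one.1 h)
  exact (Nat.lt_mul_iff_one_lt_right (Nat.pos_of_ne_zero h1)).2 (by omega)

/-- `H' ≤ H` contains the normaliser in `H` of a Sylow `2`-subgroup -/
theorem ih_eq [Finite G] {Z H H' P : Subgroup G} (ih : IH Z.index) (hZ : Z ≤ center G) (hZH : Z ≤ H') (hH : H ≠ ⊤)
    (hle : H' ≤ H) (hPH : P ≤ H) (hP : IsPGroup 2 P) (ho : Odd (P.relIndex H)) (hN : normalizer (P : Set G) ⊓ H ≤ H')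
    (l : G → ℂ) : kk H Z l = kk H' Z l := by
  have h1 : P ≤ H' := (le_inf le_normalizer hPH).trans hN
  have h2 : Odd (P.relIndex H') := by
    rw [← relIndex_mul_relIndex P H' H h1 hle, Nat.odd_mul] at ho
    exact ho.1
  have h3 : H' ≠ ⊤ := fun h => hH (top_le_iff.1 (h ▸ hle))
  rw [ih_sub ih hZ (relIndex_lt (hZH.trans hle) hH) hPH hP ho, ih_sub ih hZ (relIndex_lt hZH h3) h1 hP h2]
  congr 1
  exact le_antisymm (le_inf inf_le_left hN) (inf_le_inf_left _ hle)

/-- a `2`-subgroup of odd index in `H` above a given `2`-subgroup -/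
theorem exists_syl [Finite G] {H Q : Subgroup G} (hQH : Q ≤ H) (hQ : IsPGroup 2 Q) :
    ∃ P : Subgroup G, Q ≤ P ∧ P ≤ H ∧ IsPGroup 2 P ∧ Odd (P.relIndex H) := by
  obtain ⟨S, hS⟩ := (hQ.comap_subtype (K := H)).exists_le_sylow
  refine ⟨(S : Subgroup H).map H.subtype, fun x hx => ⟨⟨x, hQH hx⟩, hS hx, rfl⟩, map_subtype_le _, S.2.map _, ?_⟩
  rw [relIndex, subgroupOf, comap_map_eq_self_of_injective H.subtype_injective, ← Nat.not_even_iff_odd,
    even_iff_two_dvd]
  exact S.not_dvd_index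

/-- a `2`-subgroup of odd index is maximal -/
theorem eq_of_odd [Finite G] {K Q P : Subgroup G} (ho : Odd (Q.relIndex K)) (hQP : Q ≤ P) (hPK : P ≤ K)
    (hP : IsPGroup 2 P) : P ≤ Q := by
  rw [← relIndex_mul_relIndex Q P K hQP hPK, Nat.odd_mul] at ho
  obtain ⟨k, hk⟩ := hP.index (Q.subgroupOf P)
  rw [← relIndex_eq_one]
  have h1 := ho.1
  rw [relIndex, hk] at h1 ⊢
  rcases k with _ | k
  · rfl
  · exact absurd h1 (by rw [Nat.not_odd_iff_even, pow_succ]; exact even_two.mul_left _)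

/-! ### parity -/

/-- sums of invariant functions modulo `2` -/
theorem sum_par {D A : Type} [Group D] [Fintype A] [MulAction D A] (hD : IsPGroup 2 D) (f : A → ℂ)
    (hf : ∀ (d : D) a, f (d • a) = f a) (hi : ∀ a, IsIntegral ℤ (f a)) (a₀ : A)
    (h0 : ∀ a, (∀ d : D, d • a = a) ↔ a = a₀) : ∃ b : ℂ, IsIntegral ℤ b ∧ ∑ a, f a = f a₀ + 2 * b := by
  classical
  have key : ∀ c : ℂ, ∃ k : ℕ, (Finset.univ.filter fun a => f a = c).card = (if f a₀ = c then 1 else 0) + 2 * k := by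
    intro c
    let S : SubMulAction D A := { carrier := {a | f a = c}, smul_mem' := fun d a ha => (hf d a).trans ha }
    have h1 := hD.card_modEq_card_fixedPoints S
    have h2 : Nat.card S = (Finset.univ.filter fun a => f a = c).card := by
      exact Nat.subtype_card _ fun a => by
        rw [Finset.mem_filter]; exact ⟨fun h => h.2, fun h => ⟨Finset.mem_univ _, h⟩⟩
    have h3 : Nat.card (MulAction.fixedPoints D S) = if f a₀ = c then 1 else 0 := by
      split_ifs with h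
      · rw [Nat.card_eq_one_iff_exists]
        refine ⟨⟨⟨a₀, h⟩, fun d => Subtype.ext ((h0 a₀).2 rfl d)⟩, fun y => Subtype.ext (Subtype.ext ?_)⟩
        exact (h0 _).1 fun d => congrArg Subtype.val (y.2 d)
      · have : IsEmpty (MulAction.fixedPoints D S) := ⟨fun y => h (by
          rw [← (h0 _).1 fun d => congrArg Subtype.val (y.2 d)]; exact y.1.2)⟩
        exact Nat.card_of_isEmpty
    rw [h2, h3] at h1
    have h4 : (if f a₀ = c then 1 else 0) ≤ (Finset.univ.filter fun a => f a = c).card := by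
      split_ifs with h
      · exact Finset.card_pos.2 ⟨a₀, Finset.mem_filter.2 ⟨Finset.mem_univ _, h⟩⟩
      · exact Nat.zero_le _
    obtain ⟨k, hk⟩ := (Nat.modEq_iff_dvd' h4).1 h1.symm
    exact ⟨k, by omega⟩
  choose k hk using key
  refine ⟨∑ c ∈ Finset.univ.image f, (k c : ℂ) * c, IsIntegral.sum _ fun c hc => ?_, ?_⟩
  · obtain ⟨a, -, rfl⟩ := Finset.mem_image.1 hc
    exact (isIntegral_algebraMap (R := ℤ) (x := (k (f a) : ℤ))).mul (hi a)
  · rw [Finset.sum_comp (fun c : ℂ => c) f, Finset.mul_sum]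
    have h5 : f a₀ = ∑ c ∈ Finset.univ.image f, if f a₀ = c then c else 0 := by
      rw [Finset.sum_ite_eq, if_pos (Finset.mem_image_of_mem f (Finset.mem_univ _))]
    rw [h5, ← Finset.sum_add_distrib]
    refine Finset.sum_congr rfl fun c _ => ?_
    rw [hk c, nsmul_eq_mul]
    split_ifs <;> push_cast <;> ring

theorem even_of_integral {a : ℤ} {b : ℂ} (hb : IsIntegral ℤ b) (h : (a : ℂ) = 2 * b) : Even a := by
  have h1 : b = algebraMap ℚ ℂ ((a : ℚ) / 2) := by
    rw [map_div₀, map_intCast, h, map_ofNat]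
    ring
  rw [h1, isIntegral_algebraMap_iff (algebraMap ℚ ℂ).injective, IsIntegrallyClosed.isIntegral_iff] at hb
  obtain ⟨y, hy⟩ := hb
  refine ⟨y, ?_⟩
  have h2 : (a : ℚ) = y + y := by
    rw [eq_intCast] at hy
    rw [hy]
    ring
  exact_mod_cast h2

theorem exists_mu [Finite G] (H U : Subgroup G) {χ : H → ℂ} (hχ : IsCharacter H χ) : ∃ d : ℕ, mu H U χ = d := by
  have := Fintype.ofFinite (U.subgroupOf H)
  obtain ⟨d, hd⟩ := Characters.Core.classInner_isNat (isCharacter_comp' (U.subgroupOf H).subtype hχ)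
    Characters.Core.isCharacter_one
  refine ⟨d, ?_⟩
  rw [← hd, mu, finsum_eq_sum_of_fintype, classInner]
  simp

/-- **the parity of the degree** -/
theorem deg_par [Finite G] {H U D : Subgroup G} (hUH : U ≤ H) (hDH : D ≤ H) (hD : IsPGroup 2 D)
    (hn : ∀ d ∈ D, ∀ u ∈ U, d * u * d⁻¹ ∈ U) (hC : ∀ u ∈ U, (∀ d ∈ D, d * u * d⁻¹ = u) → u = 1)
    (ho : Odd (Nat.card U)) {χ : H → ℂ} (hχ : IsCharacter H χ) {d : ℕ} (hd : mu H U χ = d) :
    Odd (charDegree χ) ↔ Odd d := by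
  have := Fintype.ofFinite (U.subgroupOf H)
  let _ : MulAction D (U.subgroupOf H) :=
    { smul := fun a u => ⟨⟨a, hDH a.2⟩ * u * (⟨a, hDH a.2⟩ : H)⁻¹, hn a a.2 _ u.2⟩
      one_smul := fun u => Subtype.ext (Subtype.ext (show ((1 : D) : G) * _ * ((1 : D) : G)⁻¹ = _ by simp))
      mul_smul := fun a b u => Subtype.ext (Subtype.ext (show ((a * b : D) : G) * _ * ((a * b : D) : G)⁻¹ =
        (a : G) * ((b : G) * _ * (b : G)⁻¹) * (a : G)⁻¹ by simp [mul_assoc])) }
  obtain ⟨b, hb, h1⟩ := sum_par (A := U.subgroupOf H) hD (fun u => χ u)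
    (fun a u => Characters.Core.isCharacter_isClassFunction hχ _ _)
    (fun u => Characters.GaloisBasic.isIntegral_apply hχ _) 1 fun u =>
      ⟨fun h => Subtype.ext (Subtype.ext (hC _ u.2 fun a ha =>
        congrArg (fun x : U.subgroupOf H => ((x : H) : G)) (h ⟨a, ha⟩))), fun h a => by
          rw [h]
          exact Subtype.ext (Subtype.ext (show (a : G) * 1 * (a : G)⁻¹ = 1 by simp))⟩
  have h2 : Nat.card (U.subgroupOf H) = Nat.card U := Nat.card_congr (subgroupOfEquivOfLe hUH).toEquiv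
  have h3 : (Nat.card U : ℂ) ≠ 0 := Nat.cast_ne_zero.2 Nat.card_pos.ne'
  rw [mu, finsum_eq_sum_of_fintype, h1, h2, inv_mul_eq_iff_eq_mul₀ h3, OneMemClass.coe_one, apply_one hχ] at hd
  have h4 := even_of_integral (a := (Nat.card U : ℤ) * d - charDegree χ) hb (by push_cast; rw [← hd]; ring)
  rw [Int.even_sub', Int.odd_mul, Int.odd_coe_nat, Int.odd_coe_nat, Int.odd_coe_nat] at h4
  exact ⟨fun h => (h4.2 h).2, fun h => h4.1 ⟨ho, h⟩⟩

theorem card_eq_of_fib {A B : Type} [Finite A] [Finite B] (f : A → ℕ) (g : B → ℕ)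
    (h : ∀ d, Nat.card {a // f a = d} = Nat.card {b // g b = d}) : Nat.card A = Nat.card B :=
  Nat.card_congr (Equiv.ofFiberEquiv fun d => (Finite.card_eq.1 (h d)).some)

theorem finite_sub {A : Type} [Group A] [Finite A] {p : (A → ℂ) → Prop} (h : ∀ ψ, p ψ → IsIrrCharacter A ψ) :
    Finite {ψ // p ψ} := by
  have : Finite (IrrCharacter A) := Characters.Core.finite_irr
  exact Finite.of_injective (fun ψ : {ψ // p ψ} => (⟨ψ.1, h _ ψ.2⟩ : IrrCharacter A))
    fun _ _ e => Subtype.ext (congrArg (fun x : IrrCharacter A => x.1) e)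

/-- **the count from the deformation theorem** -/
theorem kk_of_core (hc : Core) [Finite G] {H U N Z D : Subgroup G} {len : G → ℕ} (y : YD H U N len)
    (hZ : Z ≤ center G) (hZN : Z ≤ N) (hZl : ∀ z ∈ Z, len z = 0) (hDH : D ≤ H) (hD : IsPGroup 2 D)
    (hn : ∀ d ∈ D, ∀ u ∈ U, d * u * d⁻¹ ∈ U) (hC : ∀ u ∈ U, (∀ d ∈ D, d * u * d⁻¹ = u) → u = 1)
    (ho : Odd (Nat.card U)) (l : G → ℂ) : kk H Z l = kk N Z l := by
  have i1 : Finite {ψ : H → ℂ // OI H ψ ∧ Ov H Z l ψ} := finite_sub fun _ h => h.1.1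
  have i2 : Finite {ψ : N → ℂ // OI N ψ ∧ Ov N Z l ψ} := finite_sub fun _ h => h.1.1
  have hm : ∀ χ : {ψ : H → ℂ // OI H ψ ∧ Ov H Z l ψ}, ∃ d : ℕ, mu H U χ.1 = d := fun χ =>
    exists_mu H U (Characters.Core.isIrr_isCharacter χ.2.1.1)
  choose f hf using hm
  have hp : ∀ {χ : H → ℂ}, IsIrrCharacter H χ → ∀ {d : ℕ}, mu H U χ = d → (Odd (charDegree χ) ↔ Odd d) :=
    fun h _ hd => deg_par y.uH hDH hD hn hC ho (Characters.Core.isIrr_isCharacter h) hd
  refine card_eq_of_fib f (fun ψ : {ψ : N → ℂ // OI N ψ ∧ Ov N Z l ψ} => charDegree ψ.1) fun d => ?_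
  by_cases hd : Odd d
  · have h1 := hc G H U N Z len l d y hZ hZN hZl (by rintro rfl; exact absurd hd (by decide))
    refine (Nat.card_congr ?_).trans (h1.trans (Nat.card_congr ?_))
    · exact
        { toFun := fun χ => ⟨χ.1.1, χ.1.2.1.1, χ.1.2.2, by rw [hf, χ.2]⟩
          invFun := fun χ => ⟨⟨χ.1, ⟨χ.2.1, (hp χ.2.1 χ.2.2.2).2 hd⟩, χ.2.2.1⟩,
            Nat.cast_injective (R := ℂ) (by rw [← hf]; exact χ.2.2.2)⟩
          left_inv := fun _ => rfl
          right_inv := fun _ => rfl }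
    · exact
        { toFun := fun χ => ⟨⟨χ.1, ⟨χ.2.1, χ.2.2.2.symm ▸ hd⟩, χ.2.2.1⟩, χ.2.2.2⟩
          invFun := fun χ => ⟨χ.1.1, χ.1.2.1.1, χ.1.2.2, χ.2⟩
          left_inv := fun _ => rfl
          right_inv := fun _ => rfl }
  · have e1 : IsEmpty {a // f a = d} := ⟨fun a => hd (a.2 ▸ (hp a.1.2.1.1 (hf a.1)).1 a.1.2.1.2)⟩
    have e2 : IsEmpty {b : {ψ : N → ℂ // OI N ψ ∧ Ov N Z l ψ} // charDegree b.1 = d} :=
      ⟨fun a => hd (a.2 ▸ a.1.2.1.2)⟩
    rw [Nat.card_of_isEmpty, Nat.card_of_isEmpty]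

end Cfsg.Agent.MK.H
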