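import Cfsg.Agent.MK.H.Hat

/-!
# MK, box H: the Yokonuma-Hecke step `stepY` (helper56)

* `la` : the length of an automorphism `conj n * θ`; `hl` : the length function on `G`;
* `yd_hat` : the Bruhat decomposition of `hat (Cj H ⊔ Θ)`;
* `exists_nofix` : a `2`-subgroup of `hat Θ` without fixed points on `PP c U`.
-/

set_option autoImplicit false
set_option maxHeartbeats 400000

namespace Cfsg.Agent.MK.H

open Cfsg Subgroup Cfsg.Agent.ODD

variable {X : Type} [Group X]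

theorem mem_Cj_sup {Θ : Subgroup (MulAut X)} {K : Subgroup X} (hK : ∀ θ ∈ Θ, ∀ k ∈ K, θ k ∈ K) {α : MulAut X} :
    α ∈ Cj K ⊔ Θ ↔ ∃ n ∈ K, ∃ θ ∈ Θ, α = MulAut.conj n * θ := by
  let S : Subgroup (MulAut X) :=
    { carrier := {α | ∃ n ∈ K, ∃ θ ∈ Θ, α = MulAut.conj n * θ}
      one_mem' := ⟨1, one_mem _, 1, one_mem _, by rw [map_one, one_mul]⟩
      mul_mem' := by
        rintro _ _ ⟨n, hn, θ, hθ, rfl⟩ ⟨m, hm, η, hη, rfl⟩
        refine ⟨n * θ m, mul_mem hn (hK θ hθ m hm), θ * η, mul_mem hθ hη, ?_⟩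
        rw [map_mul, conj_map]
        group
      inv_mem' := by
        rintro _ ⟨n, hn, θ, hθ, rfl⟩
        refine ⟨θ⁻¹ n⁻¹, hK _ (inv_mem hθ) _ (inv_mem hn), θ⁻¹, inv_mem hθ, ?_⟩
        rw [conj_map, map_inv]
        group }
  constructor
  · intro h
    refine (sup_le ?_ ?_ : Cj K ⊔ Θ ≤ S) h
    · rintro _ ⟨n, hn, rfl⟩
      exact ⟨n, hn, 1, one_mem _, (mul_one _).symm⟩
    · exact fun θ hθ => ⟨1, one_mem _, θ, hθ, by rw [map_one, one_mul]⟩
  · rintro ⟨n, hn, θ, hθ, rfl⟩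
    exact mul_mem (mem_sup_left ⟨n, hn, rfl⟩) (mem_sup_right hθ)

open Classical in
/-- the length of an automorphism -/
noncomputable def la (Θ : Subgroup (MulAut X)) (N : Subgroup X) (len : X → ℕ) (α : MulAut X) : ℕ :=
  if h : ∃ n ∈ N, ∃ θ ∈ Θ, α = MulAut.conj n * θ then len h.choose else 0

section comp

variable {Γ Θ : Subgroup (MulAut X)} {H U N : Subgroup X} {len : X → ℕ} (y : YX Γ Θ H U N len)
include y

theorem mem_N {α : MulAut X} : α ∈ Cj N ⊔ Θ ↔ ∃ n ∈ N, ∃ θ ∈ Θ, α = MulAut.conj n * θ :=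
  mem_Cj_sup fun θ hθ n hn => (y.hN θ hθ n hn).1

theorem mem_H {α : MulAut X} : α ∈ Cj H ⊔ Θ ↔ ∃ n ∈ H, ∃ θ ∈ Θ, α = MulAut.conj n * θ :=
  mem_Cj_sup fun θ hθ h hh => by
    obtain ⟨u, hu, n, hn, v, hv, rfl⟩ := y.yd.cover h hh
    rw [map_mul, map_mul]
    exact mul_mem (mul_mem (y.yd.uH (y.hU θ hθ u hu)) (y.yd.nH (y.hN θ hθ n hn).1)) (y.yd.uH (y.hU θ hθ v hv))

theorem of_conj_eq {a b : X} {θ η : MulAut X} (hθ : θ ∈ Θ) (hη : η ∈ Θ)
    (h : MulAut.conj a * θ = MulAut.conj b * η) : b⁻¹ * a ∈ N ∧ len (b⁻¹ * a) = 0 := by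
  rw [← y.inn]
  have h1 : MulAut.conj (b⁻¹ * a) = η * θ⁻¹ := by
    rw [map_mul, map_inv, inv_mul_eq_iff_eq_mul, ← mul_assoc, ← h, mul_inv_cancel_right]
  rw [h1]
  exact mul_mem hη (inv_mem hθ)

theorem la_mk {n : X} (hn : n ∈ N) {θ : MulAut X} (hθ : θ ∈ Θ) : la Θ N len (MulAut.conj n * θ) = len n := by
  have h : ∃ m ∈ N, ∃ η ∈ Θ, MulAut.conj n * θ = MulAut.conj m * η := ⟨n, hn, θ, hθ, rfl⟩
  rw [la, dif_pos h]
  obtain ⟨hm, η, hη, e⟩ := h.choose_spec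
  obtain ⟨h1, h2⟩ := of_conj_eq y hθ hη e
  have h3 := (y.yd.zero _ h1 h2).2 n⁻¹ (inv_mem hn)
  rw [mul_inv_cancel_right, y.yd.inv _ hm, y.yd.inv _ hn] at h3
  exact h3

theorem la_theta {θ : MulAut X} (hθ : θ ∈ Θ) : la Θ N len θ = 0 := by
  have h := la_mk y (one_mem N) hθ
  rwa [map_one, one_mul, y.yd.one] at h

theorem mem_of_la {α : MulAut X} (hα : α ∈ Cj N ⊔ Θ) (h : la Θ N len α = 0) : α ∈ Θ := by
  obtain ⟨n, hn, θ, hθ, rfl⟩ := (mem_N y).1 hα
  rw [la_mk y hn hθ] at h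
  exact mul_mem ((y.inn n).2 ⟨hn, h⟩) hθ

theorem la_mul {n m : X} (hn : n ∈ N) (hm : m ∈ N) {θ η : MulAut X} (hθ : θ ∈ Θ) (hη : η ∈ Θ) :
    la Θ N len (MulAut.conj n * θ * (MulAut.conj m * η)) = len (n * θ m) := by
  rw [← la_mk y (mul_mem hn (y.hN θ hθ m hm).1) (mul_mem hθ hη), map_mul, conj_map]
  congr 1
  group

theorem la_left {θ α : MulAut X} (hθ : θ ∈ Θ) (hα : α ∈ Cj N ⊔ Θ) : la Θ N len (θ * α) = la Θ N len α := by
  obtain ⟨n, hn, η, hη, rfl⟩ := (mem_N y).1 hα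
  have h := la_mul y (one_mem N) hn hθ hη
  rw [map_one, one_mul, one_mul, (y.hN θ hθ n hn).2] at h
  rw [h, la_mk y hn hη]

theorem la_inv {α : MulAut X} (hα : α ∈ Cj N ⊔ Θ) : la Θ N len α⁻¹ = la Θ N len α := by
  obtain ⟨n, hn, η, hη, rfl⟩ := (mem_N y).1 hα
  have h := la_mk y (inv_mem hn) (one_mem Θ)
  rw [mul_one, map_inv, y.yd.inv _ hn] at h
  rw [mul_inv_rev, la_left y (inv_mem hη) (inv_mem (mem_sup_left ⟨n, hn, rfl⟩)), h, la_mk y hn hη]

theorem eq_one_of_cen {u : X} (hu : u ∈ U) (hz : u ∈ center X) : u = 1 := by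
  have h1 : u ∈ N := ((y.inn u).1 (by rw [conj_eq_one.2 hz]; exact one_mem _)).1
  exact (y.yd.uniq 1 (one_mem _) u h1 u hu 1 (one_mem _) (by rw [mul_one, mul_one])).symm

end comp

variable {Γ : Subgroup (MulAut X)} {G : Type} [Group G] {Z : Subgroup G} {ι : Type} [Fintype ι] (c : Conf Γ G Z ι)

/-- the length function on `G` -/
noncomputable def hl (Θ : Subgroup (MulAut X)) (N : Subgroup X) (len : X → ℕ) (g : G) : ℕ :=
  ∑ i, la Θ N len (c.a g i)

/-- the shape of an element of length one -/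
structure One (Θ : Subgroup (MulAut X)) (N : Subgroup X) (len : X → ℕ) (s : G) (j : ι) (σ : X) (θ : MulAut X) :
    Prop where
  mem : σ ∈ N
  one : len σ = 1
  th : θ ∈ Θ
  eq : c.a s j = MulAut.conj σ * θ
  ne : ∀ i, i ≠ j → c.a s i ∈ Θ

variable {Θ : Subgroup (MulAut X)} {H U N : Subgroup X} {len : X → ℕ} (y : YX Γ Θ H U N len)
include y

theorem hl_eq_zero {g : G} (hg : g ∈ c.hat Θ) : hl c Θ N len g = 0 :=
  Finset.sum_eq_zero fun i _ => la_theta y (hg i)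

theorem mem_of_hl {g : G} (hg : g ∈ c.hat (Cj N ⊔ Θ)) (h : hl c Θ N len g = 0) : g ∈ c.hat Θ := fun i =>
  mem_of_la y (hg i) (Finset.sum_eq_zero_iff.1 h i (Finset.mem_univ i))

theorem exists_one {s : G} (hs : s ∈ c.hat (Cj N ⊔ Θ)) (h : hl c Θ N len s = 1) :
    ∃ j σ θ, One c Θ N len s j σ θ := by
  classical
  obtain ⟨j, -, hj⟩ := Finset.exists_ne_zero_of_sum_ne_zero (h.trans_ne one_ne_zero)
  rw [hl, ← Finset.add_sum_erase _ _ (Finset.mem_univ j)] at h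
  obtain ⟨σ, hσ, θ, hθ, e⟩ := (mem_N y).1 (hs j)
  have h1 : ∑ i ∈ Finset.univ.erase j, la Θ N len (c.a s i) = 0 := by omega
  refine ⟨j, σ, θ, hσ, ?_, hθ, e, fun i hi => mem_of_la y (hs i) ?_⟩
  · rw [h1, add_zero, e, la_mk y hσ hθ] at h
    exact h
  · exact Finset.sum_eq_zero_iff.1 h1 i (Finset.mem_erase.2 ⟨hi, Finset.mem_univ i⟩)

theorem hl_one {s : G} {j : ι} {σ : X} {θ : MulAut X} (o : One c Θ N len s j σ θ) : hl c Θ N len s = 1 := by
  rw [hl, Finset.sum_eq_single j (fun i _ hi => la_theta y (o.ne i hi)) fun h => absurd (Finset.mem_univ j) h, o.eq,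
    la_mk y o.mem o.th, o.one]

theorem hl_mul {s : G} {σ : X} {θ : MulAut X} {n : G} {i : ι} (o : One c Θ N len s (c.π n i) σ θ)
    (hn : n ∈ c.hat (Cj N ⊔ Θ)) {m : X} (hm : m ∈ N) {η : MulAut X} (hη : η ∈ Θ)
    (e : c.a n i = MulAut.conj m * η) : hl c Θ N len (s * n) + len (θ m) = hl c Θ N len n + len (σ * θ m) := by
  classical
  rw [hl, hl, ← Finset.add_sum_erase _ _ (Finset.mem_univ i), ← Finset.add_sum_erase _ _ (Finset.mem_univ i),
    c.a_mul, o.eq, e, la_mul y o.mem hm o.th hη, la_mk y hm hη, (y.hN θ o.th m hm).2,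
    Finset.sum_congr rfl fun k hk => show la Θ N len (c.a (s * n) k) = la Θ N len (c.a n k) by
      rw [c.a_mul, la_left y (o.ne _ fun h => (Finset.mem_erase.1 hk).1 ((c.π n).injective h)) (hn k)]]
  ring

omit [Fintype ι] y in
theorem one_e {σ : X} (hσ : σ ∈ N) (h : len σ = 1) (j : ι) : One c Θ N len (c.e j σ) j σ 1 :=
  ⟨hσ, h, one_mem _, by rw [a_e_self, mul_one], fun i hi => by rw [a_e_ne c hi.symm]; exact one_mem _⟩

omit [Fintype ι] y in
theorem One.mem_hat {s : G} {j : ι} {σ : X} {θ : MulAut X} (o : One c Θ N len s j σ θ) : s ∈ c.hat (Cj N ⊔ Θ) :=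
  fun i => by
    by_cases h : i = j
    · rw [h, o.eq]
      exact mul_mem (mem_sup_left ⟨σ, o.mem, rfl⟩) (mem_sup_right o.th)
    · exact mem_sup_right (o.ne i h)

/-- the conjugate of an element of `PP c U` by an element of length one -/
theorem One.conj {s : G} {j : ι} {σ : X} {θ : MulAut X} (o : One c Θ N len s j σ θ) {u : G} (hu : u ∈ PP c U) :
    ∃ v ∈ U, ∃ w ∈ PP c U, s * u * s⁻¹ = w * c.e (c.π s j) (σ * v * σ⁻¹) := by
  classical
  obtain ⟨x, hx, rfl⟩ := (mem_PP c).1 hu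
  obtain ⟨z, hz⟩ := exists_conj c s x
  refine ⟨θ (x j), y.hU θ o.th _ (hx j), pr c (Function.update z (c.π s j) 1), pr_mem_PP c fun k => ?_, ?_⟩
  · obtain ⟨k, rfl⟩ := (c.π s).surjective k
    by_cases hk : k = j
    · rw [hk, Function.update_self]
      exact one_mem _
    · rw [Function.update_of_ne fun h => hk ((c.π s).injective h), hz]
      exact y.hU _ (o.ne k hk) _ (hx k)
  · rw [conj_pr c s hz, ← pr_single, ← map_mul]
    congr 1
    ext k
    by_cases hk : k = c.π s j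
    · rw [hk, Pi.mul_apply, Function.update_self, Pi.mulSingle_eq_same, hz, o.eq, one_mul]
      rfl
    · rw [Pi.mul_apply, Function.update_of_ne hk, Pi.mulSingle_eq_of_ne hk, mul_one]

/-- **the Bruhat decomposition in `G`** -/
theorem yd_hat : YD (c.hat (Cj H ⊔ Θ)) (PP c U) (c.hat (Cj N ⊔ Θ)) (hl c Θ N len) where
  uH := PP_le_hat c fun u hu => mem_sup_left ⟨u, y.yd.uH hu, rfl⟩
  nH := hat_mono c (sup_le_sup_right (map_mono y.yd.nH) _)
  cover g hg := by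
    have h : ∀ i, ∃ u ∈ U, ∃ v ∈ U, MulAut.conj u * c.a g i * MulAut.conj v ∈ Cj N ⊔ Θ := fun i => by
      obtain ⟨h, hh, θ, hθ, e⟩ := (mem_H y).1 (hg i)
      obtain ⟨u, hu, n, hn, v, hv, rfl⟩ := y.yd.cover h hh
      refine ⟨u⁻¹, inv_mem hu, θ⁻¹ v⁻¹, y.hU _ (inv_mem hθ) _ (inv_mem hv), (mem_N y).2 ⟨n, hn, θ, hθ, ?_⟩⟩
      rw [e, conj_map, map_mul, map_mul, map_inv, map_inv]
      group
    choose u hu v hv h using h
    refine ⟨(pr c fun k => u ((c.π g).symm k))⁻¹, inv_mem (pr_mem_PP c fun _ => hu _),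
      pr c (fun k => u ((c.π g).symm k)) * g * pr c v, fun i => ?_, (pr c v)⁻¹, inv_mem (pr_mem_PP c hv), by group⟩
    rw [a_mul_pr, a_pr_mul, Equiv.symm_apply_apply]
    exact h i
  uniq n hn n' hn' u₀ hu₀ v₀ hv₀ e := by
    obtain ⟨u, hu, rfl⟩ := (mem_PP c).1 hu₀
    obtain ⟨v, hv, rfl⟩ := (mem_PP c).1 hv₀
    obtain ⟨w, hw⟩ := exists_conj c n v
    have h : u * w = 1 := by
      ext k
      obtain ⟨i, rfl⟩ := (c.π n).surjective k
      obtain ⟨m, hm, θ, hθ, e1⟩ := (mem_N y).1 (hn i)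
      obtain ⟨m', hm', θ', hθ', e2⟩ := (mem_N y).1 (hn' i)
      rw [← e, a_mul_pr, a_pr_mul, e1] at e2
      have e3 : MulAut.conj (u (c.π n i) * m * θ (v i)) * θ = MulAut.conj m' * θ' := by
        rw [← e2, map_mul, map_mul, conj_map]
        group
      have h1 := mul_mem hm' (of_conj_eq y hθ hθ' e3).1
      rw [mul_inv_cancel_left] at h1
      have h2 := y.yd.uniq m hm _ h1 _ (hu _) _ (y.hU θ hθ _ (hv i)) rfl
      rw [Pi.mul_apply, hw, e1, Pi.one_apply]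
      change u (c.π n i) * (m * θ (v i) * m⁻¹) = 1
      rw [← mul_assoc, ← mul_assoc, ← h2, mul_inv_cancel]
    rw [← e]
    calc n = pr c (u * w) * n := by rw [h, map_one, one_mul]
      _ = pr c u * n * pr c v := by rw [map_mul, ← conj_pr c n hw]; group
  one := hl_eq_zero c y (one_mem _)
  inv n hn := by
    rw [hl, hl, ← Equiv.sum_comp (c.π n)]
    exact Finset.sum_congr rfl fun i _ => by rw [a_inv', la_inv y (hn i)]
  zero t ht h := by
    have h1 := mem_of_hl c y ht h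
    refine ⟨fun u hu => conj_mem_PP c (fun i => y.hU _ (h1 i)) hu, fun n hn => Finset.sum_congr rfl fun i _ => ?_⟩
    rw [c.a_mul, la_left y (h1 _) (hn i)]
  step s hs h n hn := by
    obtain ⟨j, σ, θ, o⟩ := exists_one c y hs h
    obtain ⟨i, rfl⟩ := (c.π n).surjective j
    obtain ⟨m, hm, η, hη, e⟩ := (mem_N y).1 (hn i)
    have h1 := hl_mul c y o hn hm hη e
    have h2 := y.yd.step σ o.mem o.one _ (y.hN θ o.th m hm).1
    omega
  desc n hn h := by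
    obtain ⟨i, -, hi⟩ := Finset.exists_ne_zero_of_sum_ne_zero h
    obtain ⟨m, hm, η, hη, e⟩ := (mem_N y).1 (hn i)
    rw [e, la_mk y hm hη] at hi
    obtain ⟨σ, hσ, h1, h2⟩ := y.yd.desc m hm hi
    have o : One c Θ N len _ _ _ _ := one_e c hσ h1 (c.π n i)
    have h3 := hl_mul c y o hn hm hη e
    rw [MulAut.one_apply] at h3
    exact ⟨_, o.mem_hat, hl_one c y o, by omega⟩
  up s hs h n hn h1 u hu := by
    obtain ⟨j, σ, θ, o⟩ := exists_one c y hs h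
    obtain ⟨i, rfl⟩ := (c.π n).surjective j
    obtain ⟨m, hm, η, hη, e⟩ := (mem_N y).1 (hn i)
    have h2 := hl_mul c y o hn hm hη e
    obtain ⟨v, hv, w, hw, e1⟩ := o.conj c y hu
    obtain ⟨u', hu', v', hv', e2⟩ := y.yd.up σ o.mem o.one _ (y.hN θ o.th m hm).1 (by omega) v hv
    refine ⟨w * c.e (c.π s (c.π n i)) u', mul_mem hw (e_mem_PP c hu' _), c.e i ((θ * η)⁻¹ v'),
      e_mem_PP c (y.hU _ (inv_mem (mul_mem o.th hη)) _ hv') _, ?_⟩
    have e3 := c.ha (s * n) i ((θ * η)⁻¹ v')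
    have e4 : c.a (s * n) i ((θ * η)⁻¹ v') = u'⁻¹ * (σ * v * σ⁻¹) := by
      have e5 : c.a (s * n) i = MulAut.conj (σ * θ m) * (θ * η) := by
        rw [c.a_mul, o.eq, e, map_mul, conj_map]
        group
      rw [e5, MulAut.mul_apply, MulAut.apply_inv_self, MulAut.conj_apply, eq_inv_mul_iff_mul_eq, ← mul_assoc,
        ← mul_assoc, ← e2]
      group
    rw [e4, map_mul c.π, Equiv.Perm.mul_apply, map_mul, map_inv, mul_inv_eq_iff_eq_mul] at e3
    calc s * u * n = s * u * s⁻¹ * (s * n) := by group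
      _ = _ := by rw [e1, mul_assoc (w * _), e3]; group
  quad s hs h u hu := by
    obtain ⟨j, σ, θ, o⟩ := exists_one c y hs h
    obtain ⟨v, hv, w, hw, e1⟩ := o.conj c y hu
    rcases y.yd.quad σ o.mem o.one v hv with h1 | ⟨t, ht, h1, u', hu', v', hv', e2⟩
    · exact Or.inl (e1 ▸ mul_mem hw (e_mem_PP c h1 _))
    · have h2 : c.e (c.π s j) (t * σ⁻¹) * s ∈ c.hat Θ := fun i => by
        rw [c.a_mul]
        by_cases hi : i = j
        · rw [hi, a_e_self, o.eq, map_mul, map_inv, mul_assoc, inv_mul_cancel_left]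
          exact mul_mem ((y.inn t).2 ⟨ht, h1⟩) o.th
        · rw [a_e_ne c fun h => hi ((c.π s).injective h).symm, one_mul]
          exact o.ne i hi
      refine Or.inr ⟨_, hat_mono c le_sup_right h2, hl_eq_zero c y h2, w * c.e (c.π s j) u',
        mul_mem hw (e_mem_PP c hu' _), c.e (c.π s j) v', e_mem_PP c hv' _, ?_⟩
      rw [e1, e2, map_mul, map_mul]
      group

omit [Fintype ι] y in
/-- in a group which is `2`-closed modulo `M` the Sylow `2`-subgroups are conjugate under `M` -/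
theorem exists_conj_le {T : Type} [Group T] [Finite T] {M R : Subgroup T} [M.Normal] [R.Normal]
    (hR : ∀ g ∈ R, ∃ k : ℕ, g ^ 2 ^ k ∈ M) (ho : Odd R.index) (P : Sylow 2 T) {S : Subgroup T} (hS : IsPGroup 2 S) :
    ∃ l ∈ M, ∀ s ∈ S, l⁻¹ * s * l ∈ (P : Subgroup T) := by
  have h1 : S ≤ R := fun s hs => by
    obtain ⟨k, hk⟩ := hS ⟨s, hs⟩
    have hk' : (s : T ⧸ R) ^ 2 ^ k = 1 := by
      rw [← QuotientGroup.mk_pow, show s ^ 2 ^ k = 1 from congrArg Subtype.val hk, QuotientGroup.mk_one]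
    rw [← QuotientGroup.eq_one_iff, ← orderOf_eq_one_iff]
    exact Nat.eq_one_of_dvd_coprimes ((Nat.coprime_two_left.2 ho).pow_left k) (orderOf_dvd_of_pow_eq_one hk')
      (orderOf_dvd_natCard _)
  have h2 : IsPGroup 2 (R.map (QuotientGroup.mk' M)) := by
    rintro ⟨_, g, hg, rfl⟩
    obtain ⟨k, hk⟩ := hR g hg
    exact ⟨k, Subtype.ext ((QuotientGroup.eq_one_iff _).2 hk)⟩
  have := Normal.map (inferInstance : R.Normal) _ (QuotientGroup.mk'_surjective M)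
  have h3 : S ≤ M ⊔ P := fun s hs => by
    obtain ⟨p, hp, e⟩ := h2.le_sylow_of_normal (P.mapSurjective (QuotientGroup.mk'_surjective M)) ⟨s, h1 hs, rfl⟩
    have h4 := mul_mem (mem_sup_right hp : p ∈ M ⊔ P) (mem_sup_left (QuotientGroup.eq.1 e))
    rwa [mul_inv_cancel_left] at h4
  obtain ⟨Q, hQ⟩ := (hS.comap_subtype (K := M ⊔ P)).exists_le_sylow
  obtain ⟨k, rfl⟩ := MulAction.exists_smul_eq (↥(M ⊔ P)) (P.subtype (le_sup_right : (P : Subgroup T) ≤ M ⊔ P)) Q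
  obtain ⟨l, hl, p, hp, e⟩ := mem_sup_of_normal_left.1 k.2
  refine ⟨l, hl, fun s hs => ?_⟩
  obtain ⟨t, ht, e1⟩ := hQ (show (⟨s, h3 hs⟩ : ↥(M ⊔ P)) ∈ S.comap (M ⊔ P).subtype from hs)
  have e2 : (k : T) * t * (k : T)⁻¹ = s := congrArg Subtype.val e1
  rw [← e2, ← e, show l⁻¹ * (l * p * t * (l * p)⁻¹) * l = p * t * p⁻¹ by group]
  exact mul_mem (mul_mem hp ht) (inv_mem hp)

/-- **no fixed points** -/
theorem exists_nofix [Finite G] (hX : ∃ x y : X, x * y ≠ y * x) :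
    ∃ D ≤ c.hat Θ, IsPGroup 2 D ∧ ∀ u ∈ PP c U, (∀ d ∈ D, d * u * d⁻¹ = u) → u = 1 := by
  obtain ⟨R, hn, -, hR, ho⟩ := c.cl
  obtain ⟨D, hD, h2, hf⟩ := y.nofix
  have := normal_LL c
  obtain ⟨P⟩ : Nonempty (Sylow 2 (c.hat Θ)) := inferInstance
  refine ⟨(P : Subgroup (c.hat Θ)).map (c.hat Θ).subtype, map_subtype_le _, P.2.map _, fun u₀ hu₀ h => ?_⟩
  obtain ⟨u, hu, rfl⟩ := (mem_PP c).1 hu₀
  rw [show u = 1 from funext fun i => ?_, map_one]
  let W : Subgroup (c.hat Θ) :=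
    { carrier := {g | c.π g i = i ∧ c.a g i ∈ D}
      one_mem' := ⟨by rw [OneMemClass.coe_one, map_one, Equiv.Perm.one_apply], by
        rw [OneMemClass.coe_one, c.a_one]; exact one_mem _⟩
      mul_mem' := fun {a b} ha hb => ⟨by rw [coe_mul, map_mul, Equiv.Perm.mul_apply, hb.1, ha.1], by
        rw [coe_mul, c.a_mul, hb.1]; exact mul_mem ha.2 hb.2⟩
      inv_mem' := fun {a} ha => ⟨by rw [coe_inv, map_inv, Equiv.Perm.inv_eq_iff_eq, ha.1], by
        have h := a_inv' c a i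
        rw [ha.1] at h
        rw [coe_inv, h]
        exact inv_mem ha.2⟩ }
  let φ : W →* D := MonoidHom.mk' (fun g => ⟨c.a g i, g.2.2⟩) fun a b => Subtype.ext (by
    change c.a ((a : c.hat Θ) * (b : c.hat Θ) : G) i = c.a a i * c.a b i
    rw [c.a_mul, b.2.1])
  have hφ : Function.Surjective φ := fun α => by
    obtain ⟨g, hg, e1, e2⟩ := exists_hat c y.supp i i (hD α.2)
    exact ⟨⟨⟨g, hg⟩, e1, e2 ▸ α.2⟩, Subtype.ext e2⟩
  obtain ⟨S⟩ : Nonempty (Sylow 2 W) := inferInstance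
  obtain ⟨l, hl, h3⟩ := exists_conj_le (M := (LL c).subgroupOf (c.hat Θ)) (R := R.subgroupOf (c.hat Θ))
    (fun g hg => hR g hg) (ho.of_dvd_nat (relIndex_dvd_index_of_normal _ _)) P (S.2.map W.subtype)
  have h4 : c.π l = 1 := π_LL c hX hl
  have h5 := hf _ (y.hU _ (l.2 i) _ (hu i)) fun α hα => by
    obtain ⟨g, hg, e⟩ := (h2.of_equiv topEquiv.symm).le_sylow_of_normal (S.mapSurjective hφ) (mem_top ⟨α, hα⟩)
    have e1 : c.a g i = α := congrArg Subtype.val e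
    have h6 := h _ ⟨_, h3 g ⟨g, hg, rfl⟩, rfl⟩
    obtain ⟨w, hw⟩ := exists_conj c (((l⁻¹ * g * l : c.hat Θ)) : G) u
    have h7 := cen_of_pr_eq c ((conj_pr c _ hw).symm.trans h6) i
    have h8 : c.π ((l⁻¹ * g * l : c.hat Θ) : G) i = i := by
      rw [coe_mul, coe_mul, coe_inv, map_mul, map_mul, map_inv, h4, inv_one, one_mul, mul_one, g.2.1]
    have h9 := hw i
    rw [h8] at h9
    have h10 := eq_one_of_cen y (mul_mem (inv_mem (hu i)) (h9 ▸ y.hU _ ((l⁻¹ * g * l : c.hat Θ).2 i) _ (hu i))) h7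
    have h11 := a_inv' c l i
    rw [h4, Equiv.Perm.one_apply] at h11
    rw [inv_mul_eq_one, h9, coe_mul, coe_mul, coe_inv, c.a_mul, c.a_mul, h4, Equiv.Perm.one_apply, g.2.1, h11, e1,
      MulAut.mul_apply, MulAut.mul_apply] at h10
    conv_rhs => rw [h10, MulAut.apply_inv_self]
  exact (map_eq_one_iff _ (c.a l i).injective).1 h5

omit y in
/-- **the Yokonuma-Hecke step** -/
theorem stepY (h : Core) : StepY := by
  intro X _ _ Γ Θ H U N len s y G _ _ Z ι _ c l _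
  obtain ⟨D, h1, h2, h3⟩ := exists_nofix c y (noncomm s)
  exact kk_of_core h (yd_hat c y) c.cen (Z_le_hat c (noncomm s) _)
    (fun z hz => hl_eq_zero c y (Z_le_hat c (noncomm s) _ hz)) (h1.trans (hat_mono c le_sup_right)) h2
    (fun d hd u hu => conj_mem_PP c (fun i => y.hU _ (h1 hd i)) hu) h3 (odd_PP c y.odd) l

end Cfsg.Agent.MK.H
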